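import Cfsg.Agent.H461.RM.Count
import Cfsg.Agent.H573.RM.MonGL
import Cfsg.Agent.H800.ME.Final
import Cfsg.Agent.MTwelveType.SylowModel
import Cfsg.Agent.H199.NSmMon

/-!
# S3849, P11: the Monster, `(3,11)` (helper461)

The elements of order 11 of the Monster are conjugate, `|C(x)| = 11 |M12|`; so `3 ^ 5` does not divide `|C(x)|`.
-/

set_option autoImplicit false
set_option maxRecDepth 100000

namespace Cfsg.Agent.H461.RM.Mon

open Subgroup Cfsg Cfsg.Spor Cfsg.Agent.H464.RM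
open Cfsg.Agent.LThreeMB (fr XX Zx)
open Cfsg.Agent.H800.ME.Final Cfsg.Agent.H800.ME.CoFacts
open Cfsg.Agent.BpSpor.MBigModel (MG zz card_M chart orderOf_zz)
open Cfsg.Agent.MFive (pow_eq_one)

universe u

/-- the nontrivial powers of `x` are conjugate to `x` -/
theorem isConj_pow {x : centralizer ({zz} : Set MG)} (hx : orderOf x = 11) (hpx : BpSpor.MBigModel.pi x = s) {g : MG}
    (hg : g ∈ zpowers (x : MG)) (hg1 : g ≠ 1) : IsConj (x : MG) g := by
  have hfin := BpSpor.MBigModel.finite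
  obtain ⟨k, rfl⟩ := (Submonoid.mem_powers_iff _ _).1 (mem_powers_iff_mem_zpowers.2 hg)
  have hx11 := pow_eq_one hx
  have hk : ¬ 11 ∣ k := by
    rintro ⟨m, rfl⟩
    apply hg1
    rw [pow_mul]
    have h1 : (x : MG) ^ 11 = 1 := MFive.coe_pow hx11
    rw [h1, one_pow]
  obtain ⟨t, ht⟩ := pc_of hk
  obtain ⟨c, hc⟩ := MFive.exists_conj_of_conj chart prime11 (by decide) (x := x) (y := x ^ k) hx11
    (by rw [← pow_mul, mul_comm, pow_mul, hx11, one_pow]) (s := t) (by rw [map_pow, hpx]; exact ht)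
  exact isConj_iff.2 ⟨c, congrArg Subtype.val hc⟩

theorem exists_data : ∃ x y : MG, orderOf x = 11 ∧ orderOf y = 11 ∧ x * y = y * x ∧ y ∉ zpowers x ∧ IsConj x y ∧
    (∀ g ∈ zpowers x, g ≠ 1 → IsConj x g) ∧ Nat.card ↥(centralizer ({x} : Set MG)) = 11 * 95040 := by
  have : Fact (Nat.Prime 11) := ⟨prime11⟩
  have hfin := BpSpor.MBigModel.finite
  obtain ⟨x, hx, hpx⟩ := exists_x
  have hxo : orderOf (x : MG) = 11 := by rw [Subgroup.orderOf_coe, hx]
  have hd := dvd_XX hxo
  obtain ⟨c, hc, hcf, hc5⟩ := exists_f chart hx hpx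
  obtain ⟨y, hy, hxy, hyx, hcy⟩ := exists_y chart hx hpx hd hc hc5
  have hN : Spor.IsoHN (XX (c : MG)) := MFiveHN.Closed.hnEight chart c hc5 (by rw [hcf]; exact fr_f1)
  obtain ⟨v, hv, hyv⟩ := exists_inv (by rw [Subgroup.orderOf_coe, hc5]) hy hcy hN
  obtain ⟨g, hg⟩ := BpSpor.MBigEleven.comm_z hy hv hyv
  have h1 : (g⁻¹ * y * g) * zz = zz * (g⁻¹ * y * g) := by
    calc (g⁻¹ * y * g) * zz = g⁻¹ * (y * (g * zz * g⁻¹)) * g := by group
      _ = g⁻¹ * ((g * zz * g⁻¹) * y) * g := by rw [hg]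
      _ = zz * (g⁻¹ * y * g) := by group
  let y' : centralizer ({zz} : Set MG) := ⟨g⁻¹ * y * g, mem_centralizer_singleton_iff.2 h1⟩
  have hy' : orderOf y' = 11 := by
    rw [← Subgroup.orderOf_coe, ← hy]
    show orderOf (g⁻¹ * y * g) = orderOf y
    have e : g⁻¹ * y * g = MulAut.conj g⁻¹ y := by rw [MulAut.conj_apply, inv_inv]
    rw [e, MulEquiv.orderOf_eq]
  obtain ⟨k, hk⟩ := CpAutON.Gen.conj_into (p := 11) (BpSpor.MBigModel.not_sq (Or.inl rfl) orderOf_zz) hy' hx
  obtain ⟨i, hi⟩ := mem_zpowers_iff.1 hk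
  have h2 : (x : MG) ^ i = (k : MG) * (g⁻¹ * y * g) * (k : MG)⁻¹ := congrArg Subtype.val hi
  have h3 : IsConj y ((x : MG) ^ i) := isConj_iff.2 ⟨(k : MG) * g⁻¹, by rw [h2]; group⟩
  have h4 : (x : MG) ^ i ≠ 1 := by
    intro h5
    rw [h5] at h3
    obtain ⟨w, hw⟩ := isConj_iff.1 h3
    have h6 : y = 1 := by
      have h7 : y = w⁻¹ * (w * y * w⁻¹) * w := by group
      rw [h7, hw, mul_one, inv_mul_cancel]
    rw [h6, orderOf_one] at hy
    norm_num at hy
  have h5 := isConj_pow hx hpx (g := (x : MG) ^ i) (mem_zpowers_iff.2 ⟨i, rfl⟩) h4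
  obtain ⟨e⟩ := Cfsg.Agent.H800.ME.Twelve.iso chart hx hpx hd
  refine ⟨x, y, hxo, hy, hxy, hyx, h5.trans h3.symm, fun g hg hg1 => isConj_pow hx hpx hg hg1, ?_⟩
  rw [H199.NSmMon.card_XX, hxo, Nat.card_congr e.toEquiv, Cfsg.Agent.MTwelveType.SylowModel.card_M12]

/-- **The elements of order 11 of the Monster are conjugate.** -/
theorem exists_class : ∃ x : MG, orderOf x = 11 ∧ Nat.card ↥(centralizer ({x} : Set MG)) = 11 * 95040 ∧
    ∀ r : MG, orderOf r = 11 → IsConj x r := by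
  have hfin := BpSpor.MBigModel.finite
  obtain ⟨x, y, hx, hy, hxy, hyx, hcy, hp, hc⟩ := exists_data
  refine ⟨x, hx, hc, all_conj (A := 808017424794512875886459904961710757005754368000000000 / 11 ^ 2)
    (card_M.trans (by norm_num)) (by norm_num) hx hy ?_ hp hxy hyx hcy⟩
  have h1 := card_class x
  rw [hc, card_M] at h1
  have h2 : Nat.card {g : MG // IsConj x g} = 808017424794512875886459904961710757005754368000000000 / (11 * 95040) := by
    rw [← h1, Nat.mul_div_cancel _ (by norm_num)]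
  rw [h2]

/-- **`|C(x)| = 11 |M12|`** for every `x` of order 11. -/
theorem card_cent {r : MG} (hr : orderOf r = 11) : Nat.card ↥(centralizer ({r} : Set MG)) = 11 * 95040 := by
  obtain ⟨x, hx, hc, hall⟩ := exists_class
  obtain ⟨g, rfl⟩ := isConj_iff.1 (hall r hr)
  have h1 := card_class x
  have h2 := card_class (g * x * g⁻¹)
  have h3 : Nat.card {h : MG // IsConj (g * x * g⁻¹) h} = Nat.card {h : MG // IsConj x h} :=
    Nat.card_congr (Equiv.subtypeEquivRight fun h =>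
      ⟨fun h4 => (isConj_iff.2 ⟨g, rfl⟩ : IsConj x (g * x * g⁻¹)).trans h4,
        fun h4 => (isConj_iff.2 ⟨g, rfl⟩ : IsConj x (g * x * g⁻¹)).symm.trans h4⟩)
  rw [h3] at h2
  have hfin := BpSpor.MBigModel.finite
  have h4 : 0 < Nat.card {h : MG // IsConj x h} := by
    have : Nonempty {h : MG // IsConj x h} := ⟨⟨x, IsConj.refl x⟩⟩
    exact Nat.card_pos
  rw [← hc]
  exact Nat.eq_of_mul_eq_mul_left h4 (h2.trans h1.symm)

/-- **`(3,11)`.** -/
theorem no_m_3_11 {S : Type u} [Group S] [Finite S] [IsSimpleGroup S] (h : Spor.IsoM S) :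
    ¬ H571.DExt.Dom ({3, 11} : Set ℕ) S := by
  obtain ⟨f⟩ := H573.RM.Mon.exists_equiv h
  obtain ⟨x, y, hx, hy, hxy, hyx, -, -, -⟩ := exists_data
  have hfin := BpSpor.MBigModel.finite
  have : Fact (Nat.Prime 11) := ⟨prime11⟩
  obtain ⟨E, hE1, hE2, hE3⟩ := exists_pair not_cube hx hy hxy hyx
  let F : MG ≃* S := f.symm
  have hinj : Function.Injective F.toMonoidHom := F.injective
  have hEc : Nat.card (E.map F.toMonoidHom) = 11 ^ 2 := by rw [card_map_of_injective hinj, hE3]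
  have hEe : Cfsg.IsElementaryAbelian 11 (E.map F.toMonoidHom) := by
    refine ⟨⟨⟨fun a b => Subtype.ext ?_⟩⟩, ?_⟩
    · obtain ⟨a', ha, ha2⟩ := a.2
      obtain ⟨b', hb, hb2⟩ := b.2
      show (a : S) * b = b * a
      rw [← ha2, ← hb2, ← map_mul, hE1 a' ha b' hb, map_mul]
    · rintro _ ⟨a, ha, rfl⟩
      rw [← map_pow, hE2 a ha, map_one]
  refine nd_of (no_nc (s := 3) (t := 11) (a := 20) (b := 2) (o := 5)
    (m := 808017424794512875886459904961710757005754368000000000 / (3 ^ 20 * 11 ^ 2))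
    (by norm_num) (by norm_num) (by norm_num) ((H573.RM.Mon.card_m h).trans (by norm_num)) (by norm_num) (by norm_num)
    (H573.Hall.MThr.inv_m h (by simp)) hEe hEc ?_ ?_)
  · intro k h1 h2
    interval_cases k <;> norm_num
  · intro r hr
    have h1 : orderOf (f r) = 11 := by rw [MulEquiv.orderOf_eq, hr]
    have h2 : Nat.card ↥(centralizer ({r} : Set S)) = 11 * 95040 := by
      rw [← card_cent h1]
      refine Nat.card_congr
        { toFun := fun g => ⟨f g, mem_centralizer_singleton_iff.2 ?_⟩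
          invFun := fun g => ⟨f.symm g, mem_centralizer_singleton_iff.2 ?_⟩
          left_inv := fun g => Subtype.ext (f.symm_apply_apply _)
          right_inv := fun g => Subtype.ext (f.apply_symm_apply _) }
      · rw [← map_mul, mem_centralizer_singleton_iff.1 g.2, map_mul]
      · apply f.injective
        rw [map_mul, map_mul, f.apply_symm_apply]
        exact mem_centralizer_singleton_iff.1 g.2
    rw [h2]
    norm_num

end Cfsg.Agent.H461.RM.Mon
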