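import Mathlib

/-!
# One class of elements of order 11 (helper461; S3849 P11, the Monster (3,11))

`P` a Sylow 11-subgroup of order `11 ^ 2` containing `x`, the nontrivial powers of `x` conjugate to `x`, and another
subgroup of order 11 of `P` consisting of conjugates of `x`.  If `|G : C(x)| ≡ 10 (mod 11)`, then `P` has `≡ 10 (mod 11)`
conjugates of `x`, a number divisible by 10, so 120 of them.
-/

set_option autoImplicit false

namespace Cfsg.Agent.H461.RM

open Subgroup

variable {G : Type*} [Group G]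

/-- the class of `x`, permuted by a subgroup -/
@[reducible] def act (P : Subgroup G) (x : G) : MulAction ↥P {g : G // IsConj x g} where
  smul p g := ⟨p * g * (p : G)⁻¹, g.2.trans (isConj_iff.2 ⟨p, rfl⟩)⟩
  one_smul g := Subtype.ext (by show (1 : G) * g * (1 : G)⁻¹ = g; group)
  mul_smul a b g := Subtype.ext (by
    show (a * b : G) * g * (a * b : G)⁻¹ = a * (b * g * (b : G)⁻¹) * (a : G)⁻¹
    group)

theorem card_class (x : G) :
    Nat.card {g : G // IsConj x g} * Nat.card (centralizer ({x} : Set G)) = Nat.card G := by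
  rw [card_eq_card_quotient_mul_card_subgroup (centralizer ({x} : Set G))]
  congr 1
  refine (Nat.card_congr (Equiv.ofBijective (fun q : G ⧸ centralizer ({x} : Set G) =>
    Quotient.liftOn' q (fun g => (⟨g * x * g⁻¹, isConj_iff.2 ⟨g, rfl⟩⟩ : {g : G // IsConj x g})) ?_) ⟨?_, ?_⟩)).symm
  · intro a b hab
    have h1 := mem_centralizer_singleton_iff.1 (QuotientGroup.leftRel_apply.1 hab)
    refine Subtype.ext ?_
    show a * x * a⁻¹ = b * x * b⁻¹
    calc a * x * a⁻¹ = a * (x * (a⁻¹ * b)) * b⁻¹ := by group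
      _ = a * ((a⁻¹ * b) * x) * b⁻¹ := by rw [h1]
      _ = b * x * b⁻¹ := by group
  · intro a b
    induction a using QuotientGroup.induction_on with | H a =>
    induction b using QuotientGroup.induction_on with | H b =>
    intro hab
    have h1 : a * x * a⁻¹ = b * x * b⁻¹ := congrArg Subtype.val hab
    refine QuotientGroup.eq.2 (mem_centralizer_singleton_iff.2 ?_)
    calc a⁻¹ * b * x = a⁻¹ * (b * x * b⁻¹) * b := by group
      _ = a⁻¹ * (a * x * a⁻¹) * b := by rw [h1]
      _ = x * (a⁻¹ * b) := by group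
  · rintro ⟨g, hg⟩
    obtain ⟨a, ha⟩ := isConj_iff.1 hg
    exact ⟨(a : G ⧸ centralizer ({x} : Set G)), Subtype.ext ha⟩

/-- a map of order `p` without fixed points -/
theorem dvd_of_free {α : Type*} [Finite α] {p : ℕ} [Fact p.Prime] (f : α → α) (hf : ∀ a, f^[p] a = a)
    (hne : ∀ a, f a ≠ a) : p ∣ Nat.card α := by
  classical
  have : Fintype α := Fintype.ofFinite α
  let F : Function.End α := f
  have h1 : F ^ p ^ 1 = 1 := by
    rw [pow_one]
    funext a
    have h2 : ∀ n : ℕ, (F ^ n) a = f^[n] a := by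
      intro n
      have h3 : ∀ m : ℕ, ∀ b : α, (F ^ m) b = f^[m] b := by
        intro m
        induction m with
        | zero => intro b; rfl
        | succ m ih => intro b; rw [pow_succ]; exact ih (f b)
      exact h3 n a
    rw [h2, hf]
    rfl
  have h2 := Equiv.Perm.card_fixedPoints_modEq h1
  have h3 : Fintype.card (Function.fixedPoints F) = 0 := by
    rw [Fintype.card_eq_zero_iff]
    exact ⟨fun a => hne a.1 a.2⟩
  rw [Nat.card_eq_fintype_card]
  have h4 : Fintype.card α ≡ 0 [MOD p] := h3 ▸ h2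
  exact (Nat.modEq_zero_iff_dvd).1 h4

/-- an element of prime order centralising a Sylow subgroup -/
theorem mem_of_cent {p : ℕ} [Fact p.Prime] (P : Sylow p G) {g : G} (hg : orderOf g = p)
    (hc : ∀ a ∈ (P : Subgroup G), a * g = g * a) : g ∈ (P : Subgroup G) := by
  have h1 : IsPGroup p (zpowers g) := IsPGroup.of_card (n := 1) (by rw [Nat.card_zpowers, hg, pow_one])
  have h2 : zpowers g ≤ normalizer ((P : Subgroup G) : Set G) := by
    rw [zpowers_le, mem_normalizer_iff]
    intro h
    constructor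
    · intro hh
      rw [← hc h hh, mul_inv_cancel_right]
      exact hh
    · intro hh
      have h3 := hc _ hh
      have h4 : g * h * g⁻¹ = h := by
        have h5 : g * h = g * (g * h * g⁻¹) := by rw [← h3]; group
        exact (mul_left_cancel h5).symm
      rwa [h4] at hh
  have h3 := IsPGroup.to_sup_of_normal_right' h1 P.isPGroup' h2
  have h4 : zpowers g ⊔ (P : Subgroup G) = P := P.is_maximal' h3 le_sup_right
  rw [← h4]
  exact mem_sup_left (mem_zpowers g)

/-- two commuting elements of order `p` -/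
theorem exists_pair [Finite G] {p : ℕ} [hp : Fact p.Prime] (hG : ¬ p ^ 3 ∣ Nat.card G) {x y : G} (hx : orderOf x = p)
    (hy : orderOf y = p) (hxy : x * y = y * x) (hyx : y ∉ zpowers x) :
    ∃ E : Subgroup G, (∀ a ∈ E, ∀ b ∈ E, a * b = b * a) ∧ (∀ a ∈ E, a ^ p = 1) ∧ Nat.card E = p ^ 2 := by
  have h1 : ∀ a ∈ closure ({x, y} : Set G), a * x = x * a ∧ a * y = y * a := by
    intro a ha
    have h2 : closure ({x, y} : Set G) ≤ centralizer ({x, y} : Set G) := by
      rw [closure_le]
      rintro b (rfl | rfl)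
      · rw [SetLike.mem_coe, mem_centralizer_iff]
        rintro c (rfl | rfl)
        · rfl
        · exact hxy.symm
      · rw [SetLike.mem_coe, mem_centralizer_iff]
        rintro c (rfl | rfl)
        · exact hxy
        · rfl
    have h3 := mem_centralizer_iff.1 (h2 ha)
    exact ⟨(h3 x (by simp)).symm, (h3 y (by simp)).symm⟩
  have hcomm : ∀ a ∈ closure ({x, y} : Set G), ∀ b ∈ closure ({x, y} : Set G), a * b = b * a := by
    intro a ha b hb
    have h2 : closure ({x, y} : Set G) ≤ centralizer ({a} : Set G) := by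
      rw [closure_le]
      rintro c (rfl | rfl)
      · exact mem_centralizer_singleton_iff.2 (h1 a ha).1.symm
      · exact mem_centralizer_singleton_iff.2 (h1 a ha).2.symm
    exact (mem_centralizer_singleton_iff.1 (h2 hb)).symm
  have hexp : ∀ a ∈ closure ({x, y} : Set G), a ^ p = 1 := by
    intro a ha
    induction ha using closure_induction with
    | mem a ha =>
      rcases ha with rfl | rfl
      · rw [← hx, pow_orderOf_eq_one]
      · rw [← hy, pow_orderOf_eq_one]
    | one => exact one_pow p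
    | mul a b ha hb iha ihb =>
      rw [(show Commute a b from hcomm a ha b hb).mul_pow, iha, ihb, one_mul]
    | inv a _ iha => rw [inv_pow, iha, inv_one]
  refine ⟨closure {x, y}, hcomm, hexp, ?_⟩
  have hpg : IsPGroup p (closure ({x, y} : Set G)) := fun a => ⟨1, Subtype.ext (by
    rw [pow_one]
    exact hexp a a.2)⟩
  obtain ⟨k, hk⟩ := IsPGroup.iff_card.1 hpg
  have h2 : k ≤ 2 := by
    by_contra hcon
    exact hG ((pow_dvd_pow p (by omega)).trans (hk ▸ card_subgroup_dvd_card _))
  have h3 : ¬ k ≤ 1 := by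
    intro hle
    have h4 : zpowers x ≤ closure ({x, y} : Set G) := zpowers_le.2 (subset_closure (by simp))
    have h5 : zpowers x = closure ({x, y} : Set G) := by
      refine eq_of_le_of_card_ge h4 ?_
      rw [Nat.card_zpowers, hx, hk]
      calc p ^ k ≤ p ^ 1 := Nat.pow_le_pow_right hp.out.pos hle
        _ = p := pow_one p
    apply hyx
    rw [h5]
    exact subset_closure (by simp)
  have h4 : k = 2 := by omega
  rw [hk, h4]

theorem all_conj [Finite G] {A : ℕ} (hG : Nat.card G = 11 ^ 2 * A) (hA : ¬ 11 ∣ A) {x y : G} (hx : orderOf x = 11)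
    (hy : orderOf y = 11) (hc : Nat.card {g : G // IsConj x g} % 11 = 10)
    (hp : ∀ g ∈ zpowers x, g ≠ 1 → IsConj x g) (hxy : x * y = y * x) (hyx : y ∉ zpowers x) (hcy : IsConj x y) :
    ∀ r : G, orderOf r = 11 → IsConj x r := by
  classical
  have h11 : Fact (Nat.Prime 11) := ⟨by norm_num⟩
  -- the Sylow subgroup
  have hpx : IsPGroup 11 (zpowers x) := IsPGroup.of_card (n := 1) (by rw [Nat.card_zpowers, hx, pow_one])
  have hpy : IsPGroup 11 (zpowers y) := IsPGroup.of_card (n := 1) (by rw [Nat.card_zpowers, hy, pow_one])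
  have hn : zpowers x ≤ normalizer ((zpowers y : Subgroup G) : Set G) := by
    refine le_trans ?_ (centralizer_le_normalizer _)
    rw [zpowers_le, mem_centralizer_iff]
    intro h hh
    obtain ⟨i, rfl⟩ := mem_zpowers_iff.1 hh
    exact ((show Commute x y from hxy).symm.zpow_left i).eq
  obtain ⟨P, hP⟩ := (IsPGroup.to_sup_of_normal_right' hpx hpy hn).exists_le_sylow
  have hxP : x ∈ (P : Subgroup G) := hP (mem_sup_left (mem_zpowers x))
  have hyP : y ∈ (P : Subgroup G) := hP (mem_sup_right (mem_zpowers y))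
  have hPc : Nat.card (P : Subgroup G) = 11 ^ 2 := by
    have hA0 : A ≠ 0 := by
      rintro rfl
      exact hA (dvd_zero 11)
    rw [P.card_eq_multiplicity, hG, Nat.factorization_mul (by norm_num) hA0, Finsupp.add_apply,
      Nat.factorization_eq_zero_of_not_dvd hA, Nat.Prime.factorization_pow (by norm_num)]
    simp
  have hcomm := IsPGroup.isMulCommutative_of_card_eq_prime_sq hPc
  have hPab : ∀ a ∈ (P : Subgroup G), ∀ b ∈ (P : Subgroup G), a * b = b * a := fun a ha b hb =>
    congrArg Subtype.val (hcomm.is_comm.comm (⟨a, ha⟩ : (P : Subgroup G)) ⟨b, hb⟩)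
  have hord : ∀ {g : G}, IsConj x g → orderOf g = 11 := by
    intro g hg
    obtain ⟨c, rfl⟩ := isConj_iff.1 hg
    rw [← MulAut.conj_apply, MulEquiv.orderOf_eq, hx]
  -- the conjugates of `x` in `P`
  let S : Set G := {g | g ∈ (P : Subgroup G) ∧ IsConj x g}
  have hS : S.Finite := Set.toFinite S
  have hmod : Nat.card S % 11 = 10 := by
    let _ := act (P : Subgroup G) x
    have h1 := P.isPGroup'.card_modEq_card_fixedPoints {g : G // IsConj x g}
    have h2 : Nat.card (MulAction.fixedPoints (P : Subgroup G) {g : G // IsConj x g}) = Nat.card S := by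
      refine Nat.card_congr
        { toFun := fun g => ⟨g.1.1, mem_of_cent P (hord g.1.2) fun a ha => ?_, g.1.2⟩
          invFun := fun g => ⟨⟨g.1, g.2.2⟩, fun a => Subtype.ext ?_⟩
          left_inv := fun g => rfl
          right_inv := fun g => rfl }
      · have h3 : a * g.1.1 * a⁻¹ = g.1.1 := congrArg Subtype.val (g.2 ⟨a, ha⟩)
        exact mul_inv_eq_iff_eq_mul.1 h3
      · show (a : G) * g.1 * (a : G)⁻¹ = g.1
        rw [hPab a a.2 g.1 g.2.1, mul_inv_cancel_right]
    rw [h2] at h1
    rw [← hc]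
    exact h1.symm
  have hpow : ∀ {g : G}, IsConj x g → ∀ k : ℕ, g ^ k ≠ 1 → IsConj x (g ^ k) := by
    intro g hg k hk
    obtain ⟨c, rfl⟩ := isConj_iff.1 hg
    have h1 : (c * x * c⁻¹) ^ k = c * x ^ k * c⁻¹ := conj_pow
    rw [h1] at hk ⊢
    refine (hp _ (npow_mem_zpowers x k) (fun h2 => hk ?_)).trans (isConj_iff.2 ⟨c, rfl⟩)
    rw [h2, mul_one, mul_inv_cancel]
  have hne : ∀ {g : G}, IsConj x g → ∀ k : ℕ, ¬ 11 ∣ k → g ^ k ≠ 1 := by
    intro g hg k hk h1
    apply hk
    rw [← hord hg]
    exact orderOf_dvd_of_pow_eq_one h1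
  have h11' : ∀ {g : G}, IsConj x g → g ^ 11 = 1 := fun {g} hg => by rw [← hord hg, pow_orderOf_eq_one]
  have hdvd : ∀ (q k : ℕ) [Fact q.Prime], ¬ 11 ∣ k → ¬ 11 ∣ k - 1 → 1 ≤ k → k ^ q % 11 = 1 → q ∣ Nat.card S := by
    intro q k _ hk hk1 hk0 hkq
    let f : S → S := fun g => ⟨g.1 ^ k, pow_mem g.2.1 k, hpow g.2.2 k (hne g.2.2 k hk)⟩
    refine dvd_of_free (α := S) f (fun g => ?_) (fun g h1 => ?_)
    · have h2 : ∀ n : ℕ, ((f^[n] g : S) : G) = g.1 ^ (k ^ n) := by
        intro n
        induction n with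
        | zero => rw [pow_zero, pow_one]; rfl
        | succ n ih =>
          rw [Function.iterate_succ_apply']
          show ((f^[n] g : S) : G) ^ k = _
          rw [ih, ← pow_mul, ← pow_succ]
      apply Subtype.ext
      rw [h2, ← pow_mod_orderOf, hord g.2.2, hkq, pow_one]
    · have h2 : g.1 ^ k = g.1 := congrArg Subtype.val h1
      refine hne g.2.2 (k - 1) hk1 ?_
      have h3 : g.1 ^ (k - 1) * g.1 = 1 * g.1 := by
        rw [← pow_succ, Nat.sub_add_cancel hk0, h2, one_mul]
      exact mul_right_cancel h3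
  have h2 : 2 ∣ Nat.card S := by
    have : Fact (Nat.Prime 2) := ⟨by norm_num⟩
    exact hdvd 2 10 (by norm_num) (by norm_num) (by norm_num) (by norm_num)
  have h5 : 5 ∣ Nat.card S := by
    have : Fact (Nat.Prime 5) := ⟨by norm_num⟩
    exact hdvd 5 3 (by norm_num) (by norm_num) (by norm_num) (by norm_num)
  -- bounds
  have hsub : S ⊆ ((P : Subgroup G) : Set G) \ {1} := by
    rintro g ⟨h3, h4⟩
    refine ⟨h3, fun h6 => ?_⟩
    have h7 := hord h4
    rw [Set.mem_singleton_iff.1 h6, orderOf_one] at h7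
    norm_num at h7
  have hPn : (((P : Subgroup G) : Set G) \ {1}).ncard = 120 := by
    rw [Set.ncard_sdiff_singleton_of_mem (one_mem (P : Subgroup G)), ← Nat.card_coe_set_eq]
    show Nat.card (P : Subgroup G) - 1 = 120
    rw [hPc]
    norm_num
  have hle : Nat.card S ≤ 120 := by
    rw [← hPn, Nat.card_coe_set_eq]
    exact Set.ncard_le_ncard hsub (Set.toFinite _)
  have hge : 11 ≤ Nat.card S := by
    have h3 : insert y (((zpowers x : Subgroup G) : Set G) \ {1}) ⊆ S := by
      rintro g (rfl | ⟨h3, h4⟩)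
      · exact ⟨hyP, hcy⟩
      · exact ⟨(zpowers_le.2 hxP) h3, hp g h3 h4⟩
    have h4 := Set.ncard_le_ncard h3 hS
    rw [Set.ncard_insert_of_notMem (fun h6 => hyx h6.1), Set.ncard_sdiff_singleton_of_mem (one_mem (zpowers x)),
      ← Nat.card_coe_set_eq, ← Nat.card_coe_set_eq] at h4
    have h6 : Nat.card ((zpowers x : Subgroup G) : Set G) = 11 := by
      show Nat.card (zpowers x) = 11
      rw [Nat.card_zpowers, hx]
    omega
  have hcard : Nat.card S = 120 := by omega
  have hSP : S = ((P : Subgroup G) : Set G) \ {1} :=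
    Set.eq_of_subset_of_ncard_le hsub (by rw [hPn, ← Nat.card_coe_set_eq, hcard]) (Set.toFinite _)
  -- every element of order 11
  intro r hr
  have hpr : IsPGroup 11 (zpowers r) := IsPGroup.of_card (n := 1) (by rw [Nat.card_zpowers, hr, pow_one])
  obtain ⟨R, hR⟩ := hpr.exists_le_sylow
  obtain ⟨g, hg⟩ := MulAction.exists_smul_eq G R P
  have h3 : g * r * g⁻¹ ∈ (P : Subgroup G) := by
    rw [← hg, Sylow.smul_def]
    exact smul_mem_pointwise_smul r (MulAut.conj g) (R : Subgroup G) (hR (mem_zpowers r))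
  have h4 : g * r * g⁻¹ ∈ S := by
    rw [hSP]
    refine ⟨h3, fun h6 => ?_⟩
    have h7 : orderOf (g * r * g⁻¹) = 11 := by rw [← MulAut.conj_apply, MulEquiv.orderOf_eq, hr]
    rw [Set.mem_singleton_iff.1 h6, orderOf_one] at h7
    norm_num at h7
  exact h4.2.trans (isConj_iff.2 ⟨g⁻¹, by group⟩)

end Cfsg.Agent.H461.RM
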